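import Groth.Agent.L03.ProdCurves.Index

/-!
# The product of two smooth proper curves as a surface with two rulings
-/

set_option autoImplicit false
set_option linter.style.haveILetI false
set_option linter.unusedSectionVars false
set_option backward.isDefEq.respectTransparency false

universe u

open CategoryTheory CategoryTheory.Limits AlgebraicGeometry TopologicalSpace
open Groth.L22 Groth.L22.Inter Groth.L22.Nef Groth.L22.Big Groth.L03.SurfNum

noncomputable section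

namespace Groth.L03.ProdCurves

variable {k : Type u} [Field k] [IsAlgClosed k] {C₁ C₂ : Scheme.{u}} [C₁.Over (Spec (CommRingCat.of k))]
  [C₂.Over (Spec (CommRingCat.of k))]

/-- The intersection numbers on a product of curves are governed by the index inequality. -/
theorem main (h₁ : Curve.IsSmoothProperCurve k C₁ (C₁ ↘ Spec (CommRingCat.of k)))
    (h₂ : Curve.IsSmoothProperCurve k C₂ (C₂ ↘ Spec (CommRingCat.of k)))
    (x : Spec (CommRingCat.of k) ⟶ C₁) (hx : x ≫ (C₁ ↘ Spec (CommRingCat.of k)) = 𝟙 _)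
    (y : Spec (CommRingCat.of k) ⟶ C₂) (hy : y ≫ (C₂ ↘ Spec (CommRingCat.of k)) = 𝟙 _)
    (i₁ : C₁ ⟶ pullback (C₁ ↘ Spec (CommRingCat.of k)) (C₂ ↘ Spec (CommRingCat.of k)))
    (hi₁ : i₁ ≫ pullback.fst _ _ = 𝟙 C₁ ∧ i₁ ≫ pullback.snd _ _ = (C₁ ↘ Spec (CommRingCat.of k)) ≫ y)
    (i₂ : C₂ ⟶ pullback (C₁ ↘ Spec (CommRingCat.of k)) (C₂ ↘ Spec (CommRingCat.of k)))
    (hi₂ : i₂ ≫ pullback.snd _ _ = 𝟙 C₂ ∧ i₂ ≫ pullback.fst _ _ = (C₂ ↘ Spec (CommRingCat.of k)) ≫ x)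
    (L M L' M' : (pullback (C₁ ↘ Spec (CommRingCat.of k)) (C₂ ↘ Spec (CommRingCat.of k))).Modules)
    (hL : PicF.IsInvertible L) (hM : Nonempty (CohB1.tensorMod L M ≅ Coh.structureModule _))
    (hL' : PicF.IsInvertible L') (hM' : Nonempty (CohB1.tensorMod L' M' ≅ Coh.structureModule _)) :
    letI : (pullback (C₁ ↘ Spec (CommRingCat.of k)) (C₂ ↘ Spec (CommRingCat.of k))).Over
        (Spec (CommRingCat.of k)) := ⟨pullback.fst _ _ ≫ (C₁ ↘ Spec (CommRingCat.of k))⟩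
    ((FGA.intNum k (pullback (C₁ ↘ Spec (CommRingCat.of k)) (C₂ ↘ Spec (CommRingCat.of k))) 2 ![M, M'] (Coh.structureModule _)
        - Curv2.deg k C₁ ((Scheme.Modules.pullback i₁).obj L) 1
            * Curv2.deg k C₂ ((Scheme.Modules.pullback i₂).obj L') 1
        - Curv2.deg k C₂ ((Scheme.Modules.pullback i₂).obj L) 1
            * Curv2.deg k C₁ ((Scheme.Modules.pullback i₁).obj L') 1) ^ 2 ≤
      (2 * Curv2.deg k C₁ ((Scheme.Modules.pullback i₁).obj L) 1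
            * Curv2.deg k C₂ ((Scheme.Modules.pullback i₂).obj L) 1
          - FGA.intNum k (pullback (C₁ ↘ Spec (CommRingCat.of k)) (C₂ ↘ Spec (CommRingCat.of k))) 2 ![M, M] (Coh.structureModule _))
        * (2 * Curv2.deg k C₁ ((Scheme.Modules.pullback i₁).obj L') 1
            * Curv2.deg k C₂ ((Scheme.Modules.pullback i₂).obj L') 1
          - FGA.intNum k (pullback (C₁ ↘ Spec (CommRingCat.of k)) (C₂ ↘ Spec (CommRingCat.of k))) 2 ![M', M'] (Coh.structureModule _))) ∧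
    FGA.intNum k (pullback (C₁ ↘ Spec (CommRingCat.of k)) (C₂ ↘ Spec (CommRingCat.of k))) 2 ![M, M]
        (Coh.structureModule _) ≤
      2 * Curv2.deg k C₁ ((Scheme.Modules.pullback i₁).obj L) 1 *
        Curv2.deg k C₂ ((Scheme.Modules.pullback i₂).obj L) 1 := by
  letI : (pullback (C₁ ↘ Spec (CommRingCat.of k)) (C₂ ↘ Spec (CommRingCat.of k))).Over
      (Spec (CommRingCat.of k)) := ⟨pullback.fst _ _ ≫ (C₁ ↘ Spec (CommRingCat.of k))⟩
  obtain ⟨hp₁, hs₁, hint₁, hd₁⟩ := h₁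
  obtain ⟨hp₂, hs₂, hint₂, hd₂⟩ := h₂
  haveI := hp₁
  haveI := hp₂
  haveI := hs₁
  haveI := hs₂
  haveI := hint₁
  haveI := hint₂
  haveI : IsProper ((pullback (C₁ ↘ Spec (CommRingCat.of k)) (C₂ ↘ Spec (CommRingCat.of k))) ↘ Spec (CommRingCat.of k)) :=
    inferInstanceAs (IsProper (pullback.fst (C₁ ↘ Spec (CommRingCat.of k)) (C₂ ↘ Spec (CommRingCat.of k)) ≫ (C₁ ↘ Spec (CommRingCat.of k))))
  haveI : Smooth ((pullback (C₁ ↘ Spec (CommRingCat.of k)) (C₂ ↘ Spec (CommRingCat.of k))) ↘ Spec (CommRingCat.of k)) :=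
    inferInstanceAs (Smooth (pullback.fst (C₁ ↘ Spec (CommRingCat.of k)) (C₂ ↘ Spec (CommRingCat.of k)) ≫ (C₁ ↘ Spec (CommRingCat.of k))))
  haveI := Groth.L08.Cube.geometricallyIntegral_of_isAlgClosed (C₁ ↘ Spec (CommRingCat.of k))
  haveI : Flat (C₁ ↘ Spec (CommRingCat.of k)) := inferInstance
  haveI : UniversallyOpen (C₁ ↘ Spec (CommRingCat.of k)) := inferInstance
  haveI := Groth.L21.RR.isNoetherian_of_proper (X := C₂) k
  haveI : IsIntegral (pullback (C₁ ↘ Spec (CommRingCat.of k)) (C₂ ↘ Spec (CommRingCat.of k))) := inferInstance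
  have hdim : topologicalKrullDim ↥(pullback (C₁ ↘ Spec (CommRingCat.of k)) (C₂ ↘ Spec (CommRingCat.of k))) = (2 : ℕ) := by
    rw [Groth.Agent.S4643.result (C₁ ↘ Spec (CommRingCat.of k)) (C₂ ↘ Spec (CommRingCat.of k)), hd₁, hd₂]
    rfl
  have hreg : ∀ z : ↥(pullback (C₁ ↘ Spec (CommRingCat.of k)) (C₂ ↘ Spec (CommRingCat.of k))), IsRegularLocalRing ((pullback (C₁ ↘ Spec (CommRingCat.of k)) (C₂ ↘ Spec (CommRingCat.of k))).presheaf.stalk z) := fun z =>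
    Groth.L08.Cube.isRegularLocalRing_of_smooth ((pullback (C₁ ↘ Spec (CommRingCat.of k)) (C₂ ↘ Spec (CommRingCat.of k))) ↘ Spec (CommRingCat.of k)) z
  obtain ⟨H, hH⟩ := Groth.L03.SurfAmple.exists_ample k (pullback (C₁ ↘ Spec (CommRingCat.of k)) (C₂ ↘ Spec (CommRingCat.of k))) hdim hreg
  obtain ⟨hP, hPdeg, hPP, hPQ⟩ := ruling hd₁ hd₂ (pullback.fst _ _) (pullback.snd _ _) (IsPullback.of_hasPullback _ _)
    rfl hdim hreg y hy x i₁ hi₁.1 hi₁.2 i₂ hi₂.1 hi₂.2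
  obtain ⟨hQ, hQdeg, hQQ, -⟩ := ruling hd₂ hd₁ (pullback.snd _ _) (pullback.fst _ _)
    (IsPullback.of_hasPullback _ _).flip pullback.condition.symm hdim hreg x hx y i₂ hi₂.1 hi₂.2 i₁ hi₁.1 hi₁.2
  have e1 : ∀ N : (pullback (C₁ ↘ Spec (CommRingCat.of k)) (C₂ ↘ Spec (CommRingCat.of k))).Modules, PicF.IsInvertible N →
      ii k N (ClSub.idealMod i₁.ker) = -(Curv2.deg k C₁ ((Scheme.Modules.pullback i₁).obj N) 1 : ℚ) := fun N hN => by
    rw [ii_comm, hPdeg N hN]; ring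
  have e2 : ∀ N : (pullback (C₁ ↘ Spec (CommRingCat.of k)) (C₂ ↘ Spec (CommRingCat.of k))).Modules, PicF.IsInvertible N →
      ii k N (ClSub.idealMod i₂.ker) = -(Curv2.deg k C₂ ((Scheme.Modules.pullback i₂).obj N) 1 : ℚ) := fun N hN => by
    rw [ii_comm, hQdeg N hN]; ring
  obtain ⟨hCS, hneg⟩ := index hdim hH hP hQ (by rw [e1 _ hP, hPP]; simp) (by rw [e2 _ hQ, hQQ]; simp)
    (by rw [e2 _ hP, hPQ]; simp) hL hL'
  rw [e1 _ hL, e2 _ hL, e1 _ hL', e2 _ hL', ← intNum_inv_eq_ii k hdim.le hL hL' hM hM',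
    ← intNum_inv_eq_ii k hdim.le hL hL hM hM, ← intNum_inv_eq_ii k hdim.le hL' hL' hM' hM'] at hCS
  rw [e1 _ hL, e2 _ hL, ← intNum_inv_eq_ii k hdim.le hL hL hM hM] at hneg
  refine ⟨?_, ?_⟩
  · rw [← Int.cast_le (R := ℚ)]; push_cast
    refine le_trans (le_of_eq ?_) (hCS.trans (le_of_eq ?_)) <;> ring
  · rw [← Int.cast_le (R := ℚ)]; push_cast
    linarith

end Groth.L03.ProdCurves
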