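import Groth.Prelude.Def_Curve
import Groth.Agent.L03.SurfNum.CurveDegree
import Groth.Agent.L03.SurfAmple.Hodge
import Groth.Agent.L03.SurfAmple.Exists
import Groth.Agent.L03.SurfFib.PullDeg
import Groth.Agent.L03.SurfRR.BlowPoint
import Groth.Agent.L08.Cube.SliceFibre
import Groth.Agent.S4643

/-!
# The index inequality on a product of two curves
-/

set_option autoImplicit false
set_option linter.style.haveILetI false
set_option linter.unusedSectionVars false
set_option backward.isDefEq.respectTransparency false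

universe u

open CategoryTheory CategoryTheory.Limits AlgebraicGeometry TopologicalSpace
open Groth.L22 Groth.L22.Inter Groth.L22.Nef Groth.L22.Big Groth.L03.SurfNum

noncomputable section

namespace Groth.L03.ProdCurves

variable {k : Type u} [Field k]

/-- The degree of a trivial module. -/
theorem deg_trivial {C : Scheme.{u}} [C.Over (Spec (CommRingCat.of k))] {L : C.Modules}
    (e : L ≅ Coh.structureModule C) : Curv2.deg k C L 1 = 0 := by
  rw [Curv2.deg, Groth.L03.Euler.euler_iso e]; simp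

/-- A module pulled back through a point is trivial. -/
theorem nonempty_pullback_pt {C D : Scheme.{u}} (t : C ⟶ Spec (CommRingCat.of k)) (y : Spec (CommRingCat.of k) ⟶ D)
    {J : D.Modules} (hJ : PicF.IsInvertible J) :
    Nonempty ((Scheme.Modules.pullback (t ≫ y)).obj J ≅ Coh.structureModule C) := by
  haveI : Subsingleton (Spec (CommRingCat.of k)) := inferInstanceAs (Subsingleton (PrimeSpectrum k))
  obtain ⟨θ⟩ := (PicGrp.cl_eq_cl_iff _ _).1
    (Groth.Agent.AbDualLib.eq_oneCl_of_subsingleton (Y := Spec (CommRingCat.of k))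
      (c := PicF.cl ((Scheme.Modules.pullback y).obj J)) ⟨_, rfl, Groth.L18.Ample.isInvertible_pullback _ hJ⟩)
  exact ⟨((Scheme.Modules.pullbackComp t y).app J).symm ≪≫ (Scheme.Modules.pullback t).mapIso θ ≪≫
    Groth.L29.LocFree.pullbackUnitIso t⟩

variable [IsAlgClosed k]

/-- The ideal of a rational point on a curve. -/
theorem point_ker {C : Scheme.{u}} [C.Over (Spec (CommRingCat.of k))] [IsProper (C ↘ Spec (CommRingCat.of k))]
    [Smooth (C ↘ Spec (CommRingCat.of k))] [IsIntegral C] (hC : topologicalKrullDim C = 1)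
    (y : Spec (CommRingCat.of k) ⟶ C) (hy : y ≫ (C ↘ Spec (CommRingCat.of k)) = 𝟙 _) :
    IsClosedImmersion y ∧ PicF.IsInvertible (ClSub.idealMod y.ker) ∧
      Curv2.deg k C (ClSub.idealMod y.ker) 1 = -1 := by
  haveI : IsClosedImmersion y := by
    haveI : IsClosedImmersion (y ≫ (C ↘ Spec (CommRingCat.of k))) := by rw [hy]; infer_instance
    exact IsClosedImmersion.of_comp y (C ↘ Spec (CommRingCat.of k))
  refine ⟨inferInstance, ?_⟩
  haveI : Subsingleton (Spec (CommRingCat.of k)) := inferInstanceAs (Subsingleton (PrimeSpectrum k))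
  obtain ⟨o⟩ : Nonempty (Spec (CommRingCat.of k)) := ⟨IsLocalRing.closedPoint k⟩
  have hrange : Set.range y = {y o} := by
    ext z
    constructor
    · rintro ⟨a, rfl⟩; rw [Subsingleton.elim a o]; rfl
    · rintro rfl; exact ⟨o, rfl⟩
  have hq : IsClosed ({y o} : Set C) := hrange ▸ y.isClosedEmbedding.isClosed_range
  haveI : IsClosedImmersion (C.fromSpecResidueField (y o)) := isClosed_singleton_iff_isClosedImmersion.mp hq
  have hker : y.ker = (C.fromSpecResidueField (y o)).ker := by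
    rw [Groth.L23.SchKer.ker_eq_vanishingIdeal, Groth.L23.SchKer.ker_eq_vanishingIdeal]
    refine congrArg _ (TopologicalSpace.Closeds.ext ?_)
    show closure (Set.range y) = closure (Set.range (C.fromSpecResidueField (y o)))
    rw [Scheme.range_fromSpecResidueField, hrange]
  rw [hker]
  exact Groth.L03.SurfFib.deg_point (k := k) hC hq

/-- The two rulings of a product of curves. -/
theorem ruling {C D : Scheme.{u}} [C.Over (Spec (CommRingCat.of k))] [IsProper (C ↘ Spec (CommRingCat.of k))]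
    [Smooth (C ↘ Spec (CommRingCat.of k))] [IsIntegral C] (hC : topologicalKrullDim C = 1)
    [D.Over (Spec (CommRingCat.of k))] [IsProper (D ↘ Spec (CommRingCat.of k))]
    [Smooth (D ↘ Spec (CommRingCat.of k))] [IsIntegral D] (hD : topologicalKrullDim D = 1)
    {S : Scheme.{u}} (p : S ⟶ C) (q : S ⟶ D)
    (hS : IsPullback p q (C ↘ Spec (CommRingCat.of k)) (D ↘ Spec (CommRingCat.of k)))
    [S.Over (Spec (CommRingCat.of k))] [IsProper (S ↘ Spec (CommRingCat.of k))] [IsIntegral S]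
    (hpk : p ≫ (C ↘ Spec (CommRingCat.of k)) = S ↘ Spec (CommRingCat.of k))
    (hdim : topologicalKrullDim S = (2 : ℕ)) (hreg : ∀ x : S, IsRegularLocalRing (S.presheaf.stalk x))
    (y : Spec (CommRingCat.of k) ⟶ D) (hy : y ≫ (D ↘ Spec (CommRingCat.of k)) = 𝟙 _)
    (x : Spec (CommRingCat.of k) ⟶ C)
    (i : C ⟶ S) (hi : i ≫ p = 𝟙 C) (hi' : i ≫ q = (C ↘ Spec (CommRingCat.of k)) ≫ y)
    (j : D ⟶ S) (hj : j ≫ q = 𝟙 D) (hj' : j ≫ p = (D ↘ Spec (CommRingCat.of k)) ≫ x) :
    PicF.IsInvertible (ClSub.idealMod i.ker) ∧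
      (∀ L : S.Modules, PicF.IsInvertible L →
        ((Curv2.deg k C ((Scheme.Modules.pullback i).obj L) 1 : ℤ) : ℚ) = - ii k (ClSub.idealMod i.ker) L) ∧
      Curv2.deg k C ((Scheme.Modules.pullback i).obj (ClSub.idealMod i.ker)) 1 = 0 ∧
      Curv2.deg k D ((Scheme.Modules.pullback j).obj (ClSub.idealMod i.ker)) 1 = -1 := by
  obtain ⟨hyc, hJ, hJdeg⟩ := point_ker hD y hy
  haveI := hyc
  have big : IsPullback (i ≫ p) (C ↘ Spec (CommRingCat.of k)) (C ↘ Spec (CommRingCat.of k))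
      (y ≫ (D ↘ Spec (CommRingCat.of k))) := by
    rw [hi, hy]
    exact IsPullback.of_horiz_isIso ⟨by rw [Category.id_comp, Category.comp_id]⟩
  have sq : IsPullback i (C ↘ Spec (CommRingCat.of k)) q y := IsPullback.of_right big hi' hS
  haveI : IsClosedImmersion i := MorphismProperty.of_isPullback (P := @IsClosedImmersion) sq.flip hyc
  haveI : p.IsOver (Spec (CommRingCat.of k)) := ⟨hpk⟩
  have hik : i ≫ (S ↘ Spec (CommRingCat.of k)) = C ↘ Spec (CommRingCat.of k) := by
    rw [← hpk, ← Category.assoc, hi, Category.id_comp]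
  obtain ⟨hI, -⟩ := CurveDegree.invertible_ker k i hdim hreg (hC.trans Nat.cast_one.symm)
  haveI : Flat q := MorphismProperty.of_isPullback (P := @Flat) hS (inferInstance : Flat (C ↘ Spec (CommRingCat.of k)))
  have hker : i.ker = y.ker.comap q := Groth.L17.Thick.ker_of_isPullback sq
  obtain ⟨α, -, -, hiso⟩ := Groth.L07.PrinParts.exists_idealMap q y.ker _ hker
  haveI := hiso (Groth.L07.PrinParts.mono_pullback_idealι q _)
  refine ⟨hI, fun L hL => ?_, ?_, ?_⟩
  · have h := CurveDegree.deg_pullback k i hdim hreg (hC.trans Nat.cast_one.symm) hL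
    have e : (⟨i ≫ (S ↘ Spec (CommRingCat.of k))⟩ : C.Over (Spec (CommRingCat.of k))) = ‹C.Over (Spec (CommRingCat.of k))› := by
      cases ‹C.Over (Spec (CommRingCat.of k))› with
      | ofHom f => exact congrArg OverClass.ofHom hik
    rw [e] at h
    exact h
  · obtain ⟨θ⟩ := nonempty_pullback_pt (C ↘ Spec (CommRingCat.of k)) y hJ
    exact deg_trivial ((Scheme.Modules.pullback i).mapIso (asIso α).symm ≪≫
      (Scheme.Modules.pullbackComp i q).app _ ≪≫ (Scheme.Modules.pullbackCongr hi').app _ ≪≫ θ)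
  · rw [← hJdeg, Curv2.deg, Curv2.deg, Groth.L03.Euler.euler_iso
      ((Scheme.Modules.pullback j).mapIso (asIso α).symm ≪≫ (Scheme.Modules.pullbackComp j q).app _ ≪≫
        (Scheme.Modules.pullbackCongr hj).app _ ≪≫ (Scheme.Modules.pullbackId D).app _)]
    rfl

set_option maxHeartbeats 1000000 in
/-- The equivalence defects form a negative semidefinite form. -/
theorem index {S : Scheme.{u}} [S.Over (Spec (CommRingCat.of k))] [IsProper (S ↘ Spec (CommRingCat.of k))]
    [IsIntegral S] (hdim : topologicalKrullDim S = (2 : ℕ)) {H : S.Modules} (hH : CohB1.IsAmple H)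
    {P Q : S.Modules} (hP : PicF.IsInvertible P) (hQ : PicF.IsInvertible Q)
    (hPP : ii k P P = 0) (hQQ : ii k Q Q = 0) (hPQ : ii k P Q = 1)
    {L L' : S.Modules} (hL : PicF.IsInvertible L) (hL' : PicF.IsInvertible L') :
    (ii k L L' - ii k L P * ii k L' Q - ii k L Q * ii k L' P) ^ 2 ≤
        (2 * (ii k L P * ii k L Q) - ii k L L) * (2 * (ii k L' P * ii k L' Q) - ii k L' L') ∧
      ii k L L ≤ 2 * (ii k L P * ii k L Q) := by
  have hd := hdim.le
  have zp : ∀ (P : S.Modules), PicF.IsInvertible P → ∀ a : ℤ, ∃ Z : S.Modules, PicF.IsInvertible Z ∧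
      ∀ C : S.Modules, PicF.IsInvertible C → ii k Z C = a * ii k P C := by
    intro P hP a
    obtain ⟨P', hP', ⟨ι⟩⟩ := Groth.L08.Cube.exists_inverse hP
    rcases Int.eq_nat_or_neg a with ⟨n, rfl | rfl⟩
    · exact ⟨_, Groth.L18.Ample.isInvertible_tensorPow hP n, fun C hC => by rw [ii_pow k hd hP hC]; simp⟩
    · exact ⟨_, Groth.L18.Ample.isInvertible_tensorPow hP' n, fun C hC => by
        rw [ii_pow k hd hP' hC, Gram.ii_inverse k hd hP hP' hC ι]; push_cast; ring⟩
  -- the orthogonal projection to the rulings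
  have proj : ∀ (M : S.Modules), PicF.IsInvertible M → ∀ a b : ℤ, ∃ N : S.Modules, PicF.IsInvertible N ∧
      ∀ C : S.Modules, PicF.IsInvertible C → ii k N C = ii k M C + a * ii k P C + b * ii k Q C := by
    intro M hM a b
    obtain ⟨A, hA, hA'⟩ := zp P hP a
    obtain ⟨B, hB, hB'⟩ := zp Q hQ b
    refine ⟨_, Groth.L18.GenLoc.isInvertible_tensor (Groth.L18.GenLoc.isInvertible_tensor hM hA) hB,
      fun C hC => ?_⟩
    rw [ii_tensor k hd (Groth.L18.GenLoc.isInvertible_tensor hM hA) hB hC, ii_tensor k hd hM hA hC,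
      hA' C hC, hB' C hC]
  have hQP : ii k Q P = 1 := by rw [ii_comm, hPQ]
  obtain ⟨R, hR, hR'⟩ : ∃ R : S.Modules, PicF.IsInvertible R ∧
      ∀ C : S.Modules, PicF.IsInvertible C → ii k R C = ii k P C + ii k Q C :=
    ⟨_, Groth.L18.GenLoc.isInvertible_tensor hP hQ, fun C hC => ii_tensor k hd hP hQ hC⟩
  have hRR : ii k R R = 2 := by
    rw [hR' R hR, ii_comm k P R, ii_comm k Q R, hR' P hP, hR' Q hQ, hPP, hQQ, hPQ, hQP]; norm_num
  have hRH : ii k R H ≠ 0 := fun h => by
    have := ii_nonpos_of_orth k hd hR hH h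
    rw [hRR] at this
    norm_num at this
  -- classes orthogonal to the rulings are nonpositive
  have neg : ∀ N : S.Modules, PicF.IsInvertible N → ii k N P = 0 → ii k N Q = 0 → ii k N N ≤ 0 := by
    intro N hN hNP hNQ
    have hNR : ii k N R = 0 := by rw [ii_comm, hR' N hN, ii_comm k P, ii_comm k Q, hNP, hNQ]; norm_num
    obtain ⟨a, b, ha, hab⟩ : ∃ a b : ℤ, a ≠ 0 ∧ (a : ℚ) * ii k N H + b * ii k R H = 0 := by
      refine ⟨(ii k R H).num * ((ii k N H).den : ℤ), -((ii k N H).num * ((ii k R H).den : ℤ)),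
        mul_ne_zero (Rat.num_ne_zero.2 hRH) (by exact_mod_cast (ii k N H).den_pos.ne'), ?_⟩
      push_cast
      rw [← Rat.num_div_den (ii k R H), ← Rat.num_div_den (ii k N H)]
      have h1 : ((ii k R H).den : ℚ) ≠ 0 := by exact_mod_cast (ii k R H).den_pos.ne'
      have h2 : ((ii k N H).den : ℚ) ≠ 0 := by exact_mod_cast (ii k N H).den_pos.ne'
      field_simp
      simp only [Rat.num_div_den]
      ring
    have h := Groth.L03.SurfAmple.hodge_comb k hd hN hR hH a b hab
    rw [hNR, hRR] at h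
    have ha2 : (0 : ℚ) < (a : ℚ) ^ 2 := by positivity
    nlinarith [sq_nonneg (b : ℚ)]
  -- degrees are integers
  obtain ⟨l₁, hl₁⟩ : ∃ n : ℤ, ii k L P = n := ⟨_, (intNum_eq_ii k hd L P).symm⟩
  obtain ⟨l₂, hl₂⟩ : ∃ n : ℤ, ii k L Q = n := ⟨_, (intNum_eq_ii k hd L Q).symm⟩
  obtain ⟨m₁, hm₁⟩ : ∃ n : ℤ, ii k L' P = n := ⟨_, (intNum_eq_ii k hd L' P).symm⟩
  obtain ⟨m₂, hm₂⟩ : ∃ n : ℤ, ii k L' Q = n := ⟨_, (intNum_eq_ii k hd L' Q).symm⟩
  set A := ii k L L - 2 * (ii k L P * ii k L Q) with hA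
  set B := ii k L L' - ii k L P * ii k L' Q - ii k L Q * ii k L' P with hB
  set C := ii k L' L' - 2 * (ii k L' P * ii k L' Q) with hC
  have hform : ∀ a b : ℤ, (a : ℚ) ^ 2 * A + 2 * a * b * B + (b : ℚ) ^ 2 * C ≤ 0 := by
    intro a b
    obtain ⟨Z, hZ, hZ'⟩ := zp L hL a
    obtain ⟨Z', hZ1, hZ1'⟩ := zp L' hL' b
    have hW := Groth.L18.GenLoc.isInvertible_tensor hZ hZ1
    obtain ⟨N, hN, hN'⟩ := proj _ hW (-(a * l₂ + b * m₂)) (-(a * l₁ + b * m₁))
    have hWC : ∀ C : S.Modules, PicF.IsInvertible C →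
        ii k (CohB1.tensorMod Z Z') C = a * ii k L C + b * ii k L' C := fun C hC => by
      rw [ii_tensor k hd hZ hZ1 hC, hZ' C hC, hZ1' C hC]
    have hNP : ii k N P = 0 := by
      rw [hN' P hP, hWC P hP, hPP, hQP, hl₁, hm₁]; push_cast; ring
    have hNQ : ii k N Q = 0 := by
      rw [hN' Q hQ, hWC Q hQ, hQQ, hPQ, hl₂, hm₂]; push_cast; ring
    refine le_of_eq_of_le ?_ (neg N hN hNP hNQ)
    rw [hN' N hN, ii_comm k P N, hNP, ii_comm k Q N, hNQ, hWC N hN, ii_comm k L N, ii_comm k L' N, hN' L hL,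
      hN' L' hL', hWC L hL, hWC L' hL', ii_comm k L' L, ii_comm k P L, ii_comm k Q L, ii_comm k P L',
      ii_comm k Q L', hA, hB, hC, hl₁, hl₂, hm₁, hm₂]
    push_cast
    ring
  have hA0 : A ≤ 0 := by simpa using hform 1 0
  have hC0 : C ≤ 0 := by simpa using hform 0 1
  refine ⟨?_, by rw [hA] at hA0; linarith⟩
  -- Cauchy–Schwarz
  have hBint : ∃ n : ℤ, B = n := ⟨FGA.intNum k S 2 ![L, L'] (Coh.structureModule S) - l₁ * m₂ - l₂ * m₁, by
    rw [hB, hl₁, hl₂, hm₁, hm₂]; push_cast; rw [intNum_eq_ii k hd]⟩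
  have hAint : ∃ n : ℤ, A = n := ⟨FGA.intNum k S 2 ![L, L] (Coh.structureModule S) - 2 * (l₁ * l₂), by
    rw [hA, hl₁, hl₂]; push_cast; rw [intNum_eq_ii k hd]⟩
  have hCint : ∃ n : ℤ, C = n := ⟨FGA.intNum k S 2 ![L', L'] (Coh.structureModule S) - 2 * (m₁ * m₂), by
    rw [hC, hm₁, hm₂]; push_cast; rw [intNum_eq_ii k hd]⟩
  obtain ⟨b₀, hb₀⟩ := hBint
  obtain ⟨a₀, ha₀⟩ := hAint
  obtain ⟨c₀, hc₀⟩ := hCint
  have h1 := hform c₀ (-b₀)
  have h2 := hform b₀ (-a₀)
  have h3 := hform 1 1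
  have h4 := hform 1 (-1)
  push_cast at h1 h2 h3 h4
  rw [← hb₀, ← hc₀] at h1
  rw [← hb₀, ← ha₀] at h2
  show B ^ 2 ≤ _
  rw [show (2 * (ii k L P * ii k L Q) - ii k L L) * (2 * (ii k L' P * ii k L' Q) - ii k L' L') = A * C by
    rw [hA, hC]; ring]
  rcases eq_or_lt_of_le hA0 with hz | hz
  · rcases eq_or_lt_of_le hC0 with hz' | hz'
    · have : B = 0 := by rw [hz, hz'] at h3 h4; nlinarith
      rw [this, hz]; simp
    · have : C * (A * C - B ^ 2) ≤ 0 := le_of_eq_of_le (by ring) h1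
      linarith [nonneg_of_mul_nonpos_right this hz']
  · have : A * (A * C - B ^ 2) ≤ 0 := le_of_eq_of_le (by ring) h2
    linarith [nonneg_of_mul_nonpos_right this hz]

end Groth.L03.ProdCurves
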